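import Cfsg.Agent.OrderFour.Solvable
import Mathlib.Data.Nat.ChineseRemainder

/-!
Gorenstein-Herstein: solvability of a group with a fixed point free automorphism of order four.
-/

set_option autoImplicit false
set_option linter.style.haveILetI false
set_option linter.unusedSectionVars false

namespace CfsgLib.OrderFour

open Subgroup
open CfsgLib.ThompsonNil (restrict)

universe u

variable {G : Type u} [Group G] [Finite G]

/-- An element mapping a set of generators into a subgroup, as does its inverse, normalizes it. -/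
theorem mem_normalizer_closure (S : Set G) {g : G} (h : ∀ a ∈ S, g * a * g⁻¹ ∈ closure S) :
    g ∈ normalizer (closure S : Set G) := by
  have h1 : (closure S).map (MulAut.conj g).toMonoidHom = closure S := by
    refine eq_of_le_of_card_ge ?_ (card_map_of_injective (MulAut.conj g).injective).ge
    rw [map_le_iff_le_comap, closure_le]
    exact h
  refine mem_normalizer_iff.2 fun a => ⟨fun ha => h1.le ⟨a, ha, rfl⟩, fun ha => ?_⟩
  obtain ⟨b, hb, hba⟩ := h1.ge ha
  have : b = a := (MulAut.conj g).injective hba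
  exact this ▸ hb

theorem normalizer_invariant (σ : MulAut G) {Q : Subgroup G} (hQ : ∀ x ∈ Q, σ x ∈ Q) :
    ∀ g ∈ normalizer (Q : Set G), σ g ∈ normalizer (Q : Set G) := by
  intro g hg
  refine mem_normalizer_iff.2 fun y => ?_
  have hQ' : Q.map σ.toMonoidHom = Q := CfsgLib.ThompsonNil.map_eq_of_mem σ hQ
  have hiff : ∀ z, σ z ∈ Q ↔ z ∈ Q := fun z => by
    refine ⟨fun hz => ?_, hQ z⟩
    obtain ⟨w, hw, hwz⟩ := hQ'.ge hz
    exact σ.injective hwz ▸ hw
  obtain ⟨w, rfl⟩ := σ.surjective y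
  rw [← map_inv, ← map_mul, ← map_mul, hiff, hiff]
  exact mem_normalizer_iff.1 hg w

/-- An invariant subgroup of prime power order lies in the invariant Sylow subgroup. -/
theorem le_invariant_sylow (σ : MulAut G) (hfpf : ∀ g : G, σ g = g → g = 1) {q : ℕ} [Fact q.Prime]
    (P : Sylow q G) (hP : ∀ x ∈ (P : Subgroup G), σ x ∈ (P : Subgroup G)) (Q : Subgroup G)
    (hQ : IsPGroup q Q) (hQσ : ∀ x ∈ Q, σ x ∈ Q) : Q ≤ (P : Subgroup G) := by
  obtain ⟨M, hQM, hM⟩ := (Set.toFinite {R : Subgroup G | IsPGroup q R ∧ ∀ x ∈ R, σ x ∈ R})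
    |>.exists_le_maximal (show Q ∈ {R : Subgroup G | IsPGroup q R ∧ ∀ x ∈ R, σ x ∈ R} from ⟨hQ, hQσ⟩)
  refine hQM.trans ?_
  obtain ⟨hMp, hMσ⟩ := hM.1
  set N := normalizer (M : Set G) with hN
  obtain ⟨T, hT⟩ := CfsgLib.ThompsonNil.exists_invariant_sylow
    (restrict σ N (normalizer_invariant σ hMσ)) (restrict_fpf σ hfpf N _) q
  haveI : (M.comap N.subtype).Normal := ⟨fun y hy g => (mem_normalizer_iff.1 g.2 (y : G)).1 hy⟩
  have hMT : M.subgroupOf N ≤ (T : Subgroup N) :=
    (hMp.comap_of_injective N.subtype N.subtype_injective).le_sylow_of_normal T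
  have hTM : (T : Subgroup N).map N.subtype ≤ M := by
    refine hM.2 ⟨T.2.map _, ?_⟩ (fun x hx => ⟨⟨x, le_normalizer hx⟩, hMT hx, rfl⟩)
    rintro _ ⟨y, hy, rfl⟩
    exact ⟨_, hT y hy, rfl⟩
  -- the maximal invariant subgroup is a Sylow subgroup
  obtain ⟨R, hMR⟩ := hMp.exists_le_sylow
  have hRM : (R : Subgroup G) = M := by
    refine le_antisymm ?_ hMR
    by_contra hne
    haveI : Group.IsNilpotent (R : Subgroup G) := R.2.isNilpotent
    have hlt : M.subgroupOf (R : Subgroup G) < ⊤ :=
      lt_top_iff_ne_top.2 fun h => hne (subgroupOf_eq_top.1 h)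
    obtain ⟨y, hy, hyM⟩ :=
      SetLike.exists_of_lt (Group.normalizerCondition_of_isNilpotent _ hlt)
    let D : Subgroup G := (R : Subgroup G) ⊓ N
    have hyD : (y : G) ∈ D := by
      refine ⟨y.2, mem_normalizer_iff.2 fun z => ⟨fun hz => ?_, fun hz => ?_⟩⟩
      · exact mem_subgroupOf.1 ((mem_normalizer_iff.1 hy ⟨z, hMR hz⟩).1 (mem_subgroupOf.2 hz))
      · have hzR : z ∈ (R : Subgroup G) := by
          simpa [mul_assoc] using mul_mem (mul_mem (inv_mem y.2) (hMR hz)) y.2
        exact mem_subgroupOf.1 ((mem_normalizer_iff.1 hy ⟨z, hzR⟩).2 (mem_subgroupOf.2 hz))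
    have hDp : IsPGroup q (D.subgroupOf N) :=
      (R.2.to_le inf_le_left).comap_of_injective N.subtype N.subtype_injective
    obtain ⟨T', hT'⟩ := hDp.exists_le_sylow
    have hc : Nat.card (T' : Subgroup N) = Nat.card (T : Subgroup N) :=
      (Nat.card_congr (Sylow.equiv T' T).toEquiv)
    have h1 : Nat.card D ≤ Nat.card M := by
      rw [← Nat.card_congr (subgroupOfEquivOfLe (inf_le_right : D ≤ N)).toEquiv]
      refine (card_le_of_le hT').trans ?_
      rw [hc, ← card_map_of_injective N.subtype_injective]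
      exact card_le_of_le hTM
    have h2 : M = D := eq_of_le_of_card_ge (le_inf hMR le_normalizer) h1
    exact hyM (mem_subgroupOf.2 (h2 ▸ hyD))
  -- two invariant Sylow subgroups coincide
  obtain ⟨g, hg⟩ := MulAction.exists_smul_eq G P R
  have hgM : ∀ y, y ∈ (P : Subgroup G) ↔ g * y * g⁻¹ ∈ M := by
    intro y
    rw [← hRM, ← hg]
    refine ⟨fun hy => ⟨y, hy, rfl⟩, ?_⟩
    rintro ⟨y', hy', he⟩
    exact (MulAut.conj g).injective he ▸ hy'
  have hN : g⁻¹ * σ g ∈ normalizer ((P : Subgroup G) : Set G) := by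
    have hPn : ∀ y ∈ (P : Subgroup G), g⁻¹ * σ g * y * (g⁻¹ * σ g)⁻¹ ∈ (P : Subgroup G) := by
      intro y hy
      obtain ⟨w, hw, hwy⟩ := (CfsgLib.ThompsonNil.map_eq_of_mem σ hP).ge hy
      have h1 := hMσ _ ((hgM w).1 hw)
      rw [map_mul, map_mul, map_inv, show σ w = y from hwy] at h1
      rw [hgM, show g * (g⁻¹ * σ g * y * (g⁻¹ * σ g)⁻¹) * g⁻¹ = σ g * y * (σ g)⁻¹ by group]
      exact h1
    have := mem_normalizer_closure ((P : Subgroup G) : Set G) (g := g⁻¹ * σ g)
      (by rw [closure_eq]; exact hPn)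
    rwa [closure_eq] at this
  have hgN := FPFFour.fpf_of_mem σ hfpf (normalizer_invariant σ hP) hN
  intro y hy
  have : g⁻¹ * y * g ∈ (P : Subgroup G) := by
    rw [hgM, show g * (g⁻¹ * y * g) * g⁻¹ = y by group]
    exact hy
  simpa [mul_assoc] using (mem_normalizer_iff.1 hgN _).1 this

/-- An exponent selecting the part of prime power order. -/
noncomputable def partExp (N q : ℕ) : ℕ :=
  if h : (q ^ N.factorization q).Coprime (N / q ^ N.factorization q) then
    (Nat.chineseRemainder h 1 0 : ℕ) else 0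

theorem partExp_spec {N q : ℕ} (hN : N ≠ 0) (hq : q.Prime) :
    partExp N q ≡ 1 [MOD q ^ N.factorization q] ∧
      partExp N q ≡ 0 [MOD N / q ^ N.factorization q] := by
  have h : (q ^ N.factorization q).Coprime (N / q ^ N.factorization q) :=
    (Nat.coprime_ordCompl hq hN).pow_left _
  rw [partExp, dif_pos h]
  exact (Nat.chineseRemainder h 1 0).2

theorem pow_partExp_pow (x : G) {q : ℕ} (hq : q.Prime) :
    (x ^ partExp (Nat.card G) q) ^ q ^ (Nat.card G).factorization q = 1 := by
  obtain ⟨c, hc⟩ := Nat.modEq_zero_iff_dvd.1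
    (partExp_spec (Nat.card_pos (α := G)).ne' hq).2
  rw [← pow_mul, hc, mul_comm (_ / _) c, mul_assoc, mul_comm (_ / _),
    Nat.ordProj_mul_ordCompl_eq_self, pow_mul', pow_card_eq_one', one_pow]

theorem pow_sum_partExp (x : G) :
    x ^ (∑ q ∈ (Nat.card G).primeFactors, partExp (Nat.card G) q) = x := by
  set N := Nat.card G with hN
  have hN0 : N ≠ 0 := (Nat.card_pos (α := G)).ne'
  have key : (∑ q ∈ N.primeFactors, partExp N q) ≡ 1 [MOD N] := by
    rw [Nat.modEq_iff_dvd, Int.natCast_dvd, Nat.dvd_iff_prime_pow_dvd_dvd]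
    intro p k hp hpk
    rcases Nat.eq_zero_or_pos k with rfl | hk
    · simp
    have hmem : p ∈ N.primeFactors :=
      Nat.mem_primeFactors.2 ⟨hp, (dvd_pow_self p hk.ne').trans hpk, hN0⟩
    have hle : p ^ k ∣ p ^ N.factorization p :=
      pow_dvd_pow p ((hp.pow_dvd_iff_le_factorization hN0).1 hpk)
    have h1 : (∑ q ∈ N.primeFactors, partExp N q) ≡ 1 [MOD p ^ k] := by
      rw [← Finset.add_sum_erase _ _ hmem]
      have h2 : ∑ q ∈ N.primeFactors.erase p, partExp N q ≡ 0 [MOD p ^ k] := by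
        refine Nat.modEq_zero_iff_dvd.2 (Finset.dvd_sum fun q hq => ?_)
        obtain ⟨hne, hq'⟩ := Finset.mem_erase.1 hq
        have hqp := Nat.prime_of_mem_primeFactors hq'
        refine dvd_trans ?_ (Nat.modEq_zero_iff_dvd.1 (partExp_spec hN0 hqp).2)
        refine (Nat.Coprime.dvd_of_dvd_mul_left
          (((Nat.coprime_primes hp hqp).2 (Ne.symm hne)).pow k (N.factorization q)) ?_)
        rw [Nat.ordProj_mul_ordCompl_eq_self]
        exact hpk
      simpa using ((partExp_spec hN0 hp).1.of_dvd hle).add h2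
    rw [Nat.modEq_iff_dvd, Int.natCast_dvd] at h1
    exact h1
  conv_rhs => rw [← pow_one x]
  exact pow_eq_pow_iff_modEq.2 (key.of_dvd (orderOf_dvd_natCard x))

theorem pow_sum_mem {H : Subgroup G} (x : G) (f : ℕ → ℕ) (s : Finset ℕ)
    (h : ∀ q ∈ s, x ^ f q ∈ H) : x ^ (∑ q ∈ s, f q) ∈ H := by
  classical
  induction s using Finset.induction_on with
  | empty => simp
  | insert a s ha ih =>
    rw [Finset.sum_insert ha, pow_add]
    exact mul_mem (h a (Finset.mem_insert_self _ _))
      (ih fun q hq => h q (Finset.mem_insert_of_mem hq))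

theorem pow_sum_eq (x y : G) (f : ℕ → ℕ) (s : Finset ℕ)
    (h : ∀ q ∈ s, x ^ f q = y ^ f q) : x ^ (∑ q ∈ s, f q) = y ^ (∑ q ∈ s, f q) := by
  classical
  induction s using Finset.induction_on with
  | empty => simp
  | insert a s ha ih =>
    rw [Finset.sum_insert ha, pow_add, pow_add, h a (Finset.mem_insert_self _ _),
      ih fun q hq => h q (Finset.mem_insert_of_mem hq)]

theorem isSolvable_aux : ∀ (n : ℕ) (G : Type u) [Group G] [Finite G], Nat.card G = n →
    ∀ σ : MulAut G, σ ^ 4 = 1 → (∀ g : G, σ g = g → g = 1) → Group.IsSolvable G := by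
  intro n
  induction n using Nat.strong_induction_on with
  | _ n ih =>
  intro G _ _ hn σ hσ hfpf
  subst hn
  by_contra hns
  have hsub : ∀ H : Subgroup G, H ≠ ⊤ → (∀ x ∈ H, σ x ∈ H) → Group.IsSolvable H := fun H hH h =>
    ih _ (CfsgLib.Solvable.card_lt_of_ne_top hH) H rfl (restrict σ H h) (restrict_four σ hσ H h)
      (restrict_fpf σ hfpf H h)
  have habel : (∀ a b : G, a * b = b * a) → False := fun h =>
    hns (Group.isSolvable_of_comm h)
  have hsimple : ∀ M : Subgroup G, M.Normal → (∀ x ∈ M, σ x ∈ M) → M = ⊥ ∨ M = ⊤ := by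
    intro M hMn hM
    by_contra! hh
    haveI := hsub M hh.2 hM
    have hlt : Nat.card (G ⧸ M) < Nat.card G := by
      rw [Subgroup.card_eq_card_quotient_mul_card_subgroup M]
      exact lt_mul_of_one_lt_right Nat.card_pos ((one_lt_card_iff_ne_bot M).2 hh.1)
    haveI := ih _ hlt (G ⧸ M) rfl (quotAut σ M hM) (quotAut_four σ hσ M hM)
      (quotAut_fpf σ hfpf M hM)
    exact hns (Group.isSolvable_of_ker_le_range M.subtype (QuotientGroup.mk' M)
      (by rw [QuotientGroup.ker_mk', range_subtype]))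
  have hcenter : ∀ t : G, (∀ g : G, g * t = t * g) → t = 1 := by
    intro t ht
    rcases hsimple (center G) inferInstance (fun x hx => mem_center_iff.2 fun g => by
        obtain ⟨w, rfl⟩ := σ.surjective g
        rw [← map_mul, ← map_mul, mem_center_iff.1 hx w]) with h | h
    · have h1 : t ∈ center G := mem_center_iff.2 ht
      rwa [h, Subgroup.mem_bot] at h1
    · exact (habel fun a b => mem_center_iff.1 (h ▸ mem_top b) a).elim
  have hz4 : ∀ y : G, σ (σ (σ (σ y))) = y := sq_sq σ hσ
  have hodd := FPFFour.odd_card σ hσ hfpf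
  by_cases hz1 : ∀ g, σ (σ g) = g
  · refine habel fun a b => ?_
    have hinv : ∀ g, σ g = g⁻¹ := fun g => FPFFour.inv_of_fix σ hfpf (hz1 g)
    have h1 := map_mul σ b a
    rw [hinv, hinv, hinv, mul_inv_rev] at h1
    have := congrArg (·⁻¹) h1
    simpa using this.symm
  push Not at hz1
  -- inverted elements of prime power order lie in invariant Sylow subgroups
  have hproper : ∀ x : G, σ (σ x) = x⁻¹ → x ≠ 1 → ∃ H : Subgroup G, H ≠ ⊤ ∧
      (∀ h ∈ H, σ h ∈ H) ∧ x ∈ H := by
    intro x hx hx1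
    let gen : G → Set G := fun a => {y | ∃ c, σ (σ c) = c ∧ y = c * a * c⁻¹}
    let F : Set G := {c | σ (σ c) = c}
    let H := closure (gen x ∪ gen (σ x) ∪ F)
    have hσA : ∀ y ∈ gen x, σ y ∈ gen (σ x) := by
      rintro _ ⟨c, hc, rfl⟩
      refine ⟨c⁻¹, by rw [map_inv, map_inv, hc], ?_⟩
      rw [map_mul, map_mul, map_inv, FPFFour.inv_of_fix σ hfpf hc]
    have hσB : ∀ y ∈ gen (σ x), (σ y)⁻¹ ∈ gen x := by
      rintro _ ⟨c, hc, rfl⟩
      refine ⟨c⁻¹, by rw [map_inv, map_inv, hc], ?_⟩
      rw [map_mul, map_mul, map_inv, FPFFour.inv_of_fix σ hfpf hc, hx]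
      group
    refine ⟨H, fun htop => ?_, ?_, subset_closure (Or.inl (Or.inl ⟨1, by simp, by simp⟩))⟩
    · have hcomm : ∀ a ∈ gen x, ∀ b ∈ gen (σ x), a * b = b * a := by
        rintro _ ⟨c, hc, rfl⟩ _ ⟨d, hd, rfl⟩
        have h1 := commute_conj σ hσ hfpf hx (c := c⁻¹ * d)
          (by rw [map_mul, map_mul, map_inv, map_inv, hc, hd])
        have h2 := h1.map (MulAut.conj c).toMonoidHom
        simp only [MulEquiv.coe_toMonoidHom, MulAut.conj_apply] at h2
        have e : c * (c⁻¹ * d * σ x * (c⁻¹ * d)⁻¹) * c⁻¹ = d * σ x * d⁻¹ := by group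
        rw [e] at h2
        exact h2.eq
      set A := closure (gen x) with hA
      set B := closure (gen (σ x)) with hB
      have hAB : A ≤ centralizer (B : Set G) := by
        rw [hA, hB, centralizer_closure, closure_le]
        exact fun a ha => mem_centralizer_iff.2 fun b hb => (hcomm a ha b hb).symm
      have hcm : ∀ a ∈ A, ∀ b ∈ B, a * b = b * a := fun a ha b hb =>
        (mem_centralizer_iff.1 (hAB ha) b hb).symm
      have hgenconj : ∀ a c, σ (σ c) = c → ∀ y ∈ gen a, c * y * c⁻¹ ∈ gen a := by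
        rintro a c hc _ ⟨d, hd, rfl⟩
        exact ⟨c * d, by rw [map_mul, map_mul, hc, hd], by group⟩
      have hAn : A.Normal := by
        rw [← normalizer_eq_top_iff, eq_top_iff, ← htop, closure_le]
        rintro y ((hy | hy) | hy)
        · exact le_normalizer (subset_closure hy)
        · exact mem_normalizer_closure _ fun a ha => by
            rw [← hcomm a ha y hy, mul_inv_cancel_right]
            exact subset_closure ha
        · exact mem_normalizer_closure _ fun a ha => subset_closure (hgenconj x y hy a ha)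
      have hBn : B.Normal := by
        rw [← normalizer_eq_top_iff, eq_top_iff, ← htop, closure_le]
        rintro y ((hy | hy) | hy)
        · exact mem_normalizer_closure _ fun a ha => by
            rw [hcomm y hy a ha, mul_inv_cancel_right]
            exact subset_closure ha
        · exact le_normalizer (subset_closure hy)
        · exact mem_normalizer_closure _ fun a ha => subset_closure (hgenconj _ y hy a ha)
      have hσA' : ∀ a ∈ A, σ a ∈ B := fun a ha => by
        have : A ≤ B.comap σ.toMonoidHom := by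
          rw [hA, closure_le]
          exact fun y hy => subset_closure (hσA y hy)
        exact this ha
      have hσB' : ∀ a ∈ B, σ a ∈ A := fun a ha => by
        have : B ≤ A.comap σ.toMonoidHom := by
          rw [hB, closure_le]
          exact fun y hy => show σ y ∈ closure (gen x) from inv_mem_iff.1 (Subgroup.subset_closure (hσB y hy))
        exact this ha
      have hxA : x ∈ A := subset_closure ⟨1, by simp, by simp⟩
      haveI := hAn; haveI := hBn
      have hABtop : A ⊔ B = ⊤ := by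
        refine (hsimple _ inferInstance ?_).resolve_left fun h => hx1 ?_
        · intro y hy
          have : A ⊔ B ≤ (A ⊔ B).comap σ.toMonoidHom := sup_le
            (fun a ha => mem_sup_right (hσA' a ha)) (fun a ha => mem_sup_left (hσB' a ha))
          exact this hy
        · have := mem_sup_left (T := B) hxA
          rwa [h, Subgroup.mem_bot] at this
      have hcap : ∀ t ∈ A, t ∈ B → t = 1 := fun t htA htB => hcenter t fun g => by
        have : A ⊔ B ≤ centralizer ({t} : Set G) := sup_le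
          (fun a ha => mem_centralizer_singleton_iff.2 (hcm a ha t htB))
          (fun b hb => mem_centralizer_singleton_iff.2 (hcm t htA b hb).symm)
        exact mem_centralizer_singleton_iff.1 (this (hABtop ▸ mem_top g))
      have hfixA : ∀ a ∈ A, σ (σ a) = a → a = 1 := fun a ha hza => by
        have h1 : a * σ a = 1 := hfpf _ (by
          rw [map_mul, hza, ← hcm a ha _ (hσA' a ha)])
        refine hcap a ha ?_
        rw [eq_inv_of_mul_eq_one_left h1]
        exact inv_mem (hσA' a ha)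
      have hσσA : ∀ a ∈ A, σ (σ a) ∈ A := fun a ha => hσB' _ (hσA' a ha)
      have hinvA : ∀ a ∈ A, σ (σ a) = a⁻¹ := by
        let f : A → A := fun k => ⟨(k : G)⁻¹ * σ (σ k), A.mul_mem (inv_mem k.2) (hσσA k k.2)⟩
        have hf : Function.Injective f := fun a b hab => by
          have h1 : (a : G)⁻¹ * σ (σ a) = (b : G)⁻¹ * σ (σ b) := congrArg Subtype.val hab
          have h2 := hfixA ((b : G) * (a : G)⁻¹) (A.mul_mem b.2 (inv_mem a.2)) (by
            rw [map_mul, map_mul, map_inv, map_inv]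
            calc σ (σ b) * (σ (σ a))⁻¹ = (b : G) * ((b : G)⁻¹ * σ (σ b)) * (σ (σ a))⁻¹ := by group
              _ = (b : G) * ((a : G)⁻¹ * σ (σ a)) * (σ (σ a))⁻¹ := by rw [h1]
              _ = _ := by group)
          exact Subtype.ext (mul_inv_eq_one.1 h2).symm
        intro a ha
        obtain ⟨k, hk⟩ := Finite.injective_iff_surjective.1 hf ⟨a, ha⟩
        have hk' : (k : G)⁻¹ * σ (σ k) = a := congrArg Subtype.val hk
        rw [← hk', map_mul, map_mul, map_inv, map_inv, hz4]
        group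
      have habA : ∀ a ∈ A, ∀ b ∈ A, a * b = b * a := fun a ha b hb => by
        have h1 := hinvA _ (A.mul_mem hb ha)
        rw [map_mul, map_mul, hinvA b hb, hinvA a ha, mul_inv_rev] at h1
        have := congrArg (·⁻¹) h1
        simpa using this
      have habB : ∀ a ∈ B, ∀ b ∈ B, a * b = b * a := fun a ha b hb =>
        σ.injective (by rw [map_mul, map_mul]; exact habA _ (hσB' a ha) _ (hσB' b hb))
      refine hx1 (hcenter x fun g => ?_)
      have : A ⊔ B ≤ centralizer ({x} : Set G) := sup_le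
        (fun a ha => mem_centralizer_singleton_iff.2 (habA a ha x hxA))
        (fun b hb => mem_centralizer_singleton_iff.2 (hcm x hxA b hb).symm)
      exact mem_centralizer_singleton_iff.1 (this (hABtop ▸ mem_top g))
    · intro y hy
      have : H ≤ H.comap σ.toMonoidHom := by
        rw [closure_le]
        rintro y ((hy | hy) | hy)
        · exact subset_closure (Or.inl (Or.inr (hσA y hy)))
        · exact show σ y ∈ H from inv_mem_iff.1 (Subgroup.subset_closure (Or.inl (Or.inl (hσB y hy))))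
        · exact subset_closure (Or.inr (congrArg σ hy))
      exact this hy
  choose P hP using fun q : (Nat.card G).primeFactors =>
    haveI := Fact.mk (Nat.prime_of_mem_primeFactors q.2)
    CfsgLib.ThompsonNil.exists_invariant_sylow σ hfpf (q : ℕ)
  have hIP : ∀ (q : (Nat.card G).primeFactors) (x : G) (k : ℕ), σ (σ x) = x⁻¹ →
      x ^ (q : ℕ) ^ k = 1 → x ∈ (P q : Subgroup G) := by
    intro q x k hx hxq
    haveI := Fact.mk (Nat.prime_of_mem_primeFactors q.2)
    by_cases hx1 : x = 1
    · rw [hx1]; exact one_mem _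
    obtain ⟨H, hH, hHσ, hxH⟩ := hproper x hx hx1
    refine le_invariant_sylow σ hfpf (P q) (hP q) _
      ((CfsgLib.Solvable.isPGroup_pCore (G := H) (q : ℕ)).map H.subtype) ?_
      (mem_pCore σ hσ hfpf H hHσ (hsub H hH hHσ) hxH hx hxq)
    rintro _ ⟨y, hy, rfl⟩
    refine ⟨restrict σ H hHσ y, ?_, rfl⟩
    haveI : (Cfsg.pCore (q : ℕ) H).Normal := inferInstance
    have hle := CfsgLib.Solvable.le_pCore (G := H) (q : ℕ)
      (Subgroup.Normal.map (inferInstance : (Cfsg.pCore (q : ℕ) H).Normal)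
        (restrict σ H hHσ).toMonoidHom (restrict σ H hHσ).surjective)
      ((CfsgLib.Solvable.isPGroup_pCore (G := H) (q : ℕ)).map _)
    exact hle ⟨y, hy, rfl⟩
  let C : Subgroup G :=
    { carrier := {g | σ (σ g) = g}
      mul_mem' := fun {a b} (ha : σ (σ a) = a) (hb : σ (σ b) = b) => by
        show σ (σ (a * b)) = a * b
        rw [map_mul, map_mul, ha, hb]
      one_mem' := by show σ (σ 1) = 1; rw [map_one, map_one]
      inv_mem' := fun {a} (ha : σ (σ a) = a) => by
        show σ (σ a⁻¹) = a⁻¹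
        rw [map_inv, map_inv, ha] }
  have hCcomm : ∀ a ∈ C, ∀ b ∈ C, a * b = b * a := fun a (ha : σ (σ a) = a) b hb => by
    have h1 := FPFFour.inv_of_fix σ hfpf (C.mul_mem hb ha)
    rw [map_mul, FPFFour.inv_of_fix σ hfpf hb, FPFFour.inv_of_fix σ hfpf ha, mul_inv_rev] at h1
    have := congrArg (·⁻¹) h1
    simpa using this
  -- fixed elements of prime power order
  have hCP : ∀ (q : (Nat.card G).primeFactors) (x : G) (k : ℕ), x ∈ C →
      x ^ (q : ℕ) ^ k = 1 → x ∈ (P q : Subgroup G) := by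
    intro q x k hx hxq
    haveI := Fact.mk (Nat.prime_of_mem_primeFactors q.2)
    refine le_invariant_sylow σ hfpf (P q) (hP q) (zpowers x) (fun y => ⟨k, ?_⟩) ?_
      (mem_zpowers x)
    · obtain ⟨i, hi⟩ := mem_zpowers_iff.1 y.2
      apply Subtype.ext
      rw [Subgroup.coe_pow, ← hi, ← zpow_natCast, ← zpow_mul, mul_comm, zpow_mul, zpow_natCast,
        hxq, one_zpow]
      rfl
    · intro y hy
      obtain ⟨i, rfl⟩ := mem_zpowers_iff.1 hy
      rw [map_zpow, FPFFour.inv_of_fix σ hfpf hx]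
      exact zpow_mem (inv_mem (mem_zpowers x)) i
  -- unique decomposition
  obtain ⟨m, hm⟩ := FPFFour.exists_sqrt hodd
  have hdec : ∀ H : Subgroup G, (∀ h ∈ H, σ h ∈ H) → ∀ g ∈ H, ∃ i c : G,
      i ∈ H ∧ c ∈ H ∧ σ (σ i) = i⁻¹ ∧ c ∈ C ∧ g = i * c := by
    intro H hH g hg
    set v := g * (σ (σ g))⁻¹ with hv
    have hvinv : σ (σ v) = v⁻¹ := by rw [hv, map_mul, map_mul, map_inv, map_inv, hz4]; group
    set i := v ^ m with hi
    have hizi : σ (σ i) = i⁻¹ := by rw [hi, map_pow, map_pow, hvinv, inv_pow]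
    have hiH : i ∈ H := H.pow_mem (H.mul_mem hg (inv_mem (hH _ (hH _ hg)))) m
    refine ⟨i, i⁻¹ * g, hiH, H.mul_mem (inv_mem hiH) hg, hizi, ?_, by group⟩
    show σ (σ (i⁻¹ * g)) = i⁻¹ * g
    have hg' : σ (σ g) = v⁻¹ * g := by rw [hv]; group
    rw [map_mul, map_mul, map_inv, map_inv, hizi, inv_inv, hg',
      show v⁻¹ = (i ^ 2)⁻¹ by rw [hi, hm]]
    group
  have huniq : ∀ i c i' c' : G, σ (σ i) = i⁻¹ → c ∈ C → σ (σ i') = i'⁻¹ → c' ∈ C →
      i * c = i' * c' → i = i' ∧ c = c' := by
    intro i c i' c' hi (hc : σ (σ c) = c) hi' (hc' : σ (σ c') = c') he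
    have h1 : i ^ 2 = i' ^ 2 := by
      have h2 := congrArg (fun g => g * (σ (σ g))⁻¹) he
      simp only [map_mul, hi, hi', hc, hc'] at h2
      simpa [pow_two, mul_assoc] using h2
    have h3 : i = i' := by
      have := congrArg (fun y => y ^ m) h1
      rwa [← pow_mul, ← pow_mul, mul_comm, pow_mul, pow_mul, hm, hm] at this
    exact ⟨h3, mul_left_cancel (h3 ▸ he)⟩
  -- counting
  let I := {i : G // σ (σ i) = i⁻¹}
  let Y : (Nat.card G).primeFactors → Type u := fun q =>
    {i : I // (i : G) ∈ (P q : Subgroup G)} × {c : C // (c : G) ∈ (P q : Subgroup G)}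
  have hIpow : ∀ (i : I) (e : ℕ), σ (σ ((i : G) ^ e)) = ((i : G) ^ e)⁻¹ := fun i e => by
    rw [map_pow, map_pow, i.2, inv_pow]
  let Φ : I × C → ((q : (Nat.card G).primeFactors) → Y q) := fun ic q =>
    (⟨⟨(ic.1 : G) ^ partExp (Nat.card G) q, hIpow ic.1 _⟩,
      hIP q ((ic.1 : G) ^ partExp (Nat.card G) q) _ (hIpow ic.1 _)
        (pow_partExp_pow (ic.1 : G) (Nat.prime_of_mem_primeFactors q.2))⟩,
     ⟨⟨(ic.2 : G) ^ partExp (Nat.card G) q, C.pow_mem ic.2.2 _⟩,
      hCP q _ _ (C.pow_mem ic.2.2 _)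
        (pow_partExp_pow (ic.2 : G) (Nat.prime_of_mem_primeFactors q.2))⟩)
  have hinj : Function.Injective Φ := by
    rintro ⟨i, c⟩ ⟨i', c'⟩ h
    refine Prod.ext (Subtype.ext ?_) (Subtype.ext ?_)
    · rw [← pow_sum_partExp (i : G), ← pow_sum_partExp (i' : G)]
      exact pow_sum_eq _ _ _ _ fun q hq =>
        congrArg (fun y : Y ⟨q, hq⟩ => (y.1.1 : G)) (congrFun h ⟨q, hq⟩)
    · rw [← pow_sum_partExp (c : G), ← pow_sum_partExp (c' : G)]
      exact pow_sum_eq _ _ _ _ fun q hq =>
        congrArg (fun y : Y ⟨q, hq⟩ => (y.2.1 : G)) (congrFun h ⟨q, hq⟩)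
  have hcardI : Nat.card (I × C) = Nat.card G := by
    refine Nat.card_congr (Equiv.ofBijective (fun ic : I × C => (ic.1 : G) * ic.2) ⟨?_, ?_⟩)
    · rintro ⟨i, c⟩ ⟨i', c'⟩ h
      obtain ⟨h1, h2⟩ := huniq _ _ _ _ i.2 c.2 i'.2 c'.2 h
      exact Prod.ext (Subtype.ext h1) (Subtype.ext h2)
    · intro g
      obtain ⟨i, c, -, -, hi, hc, rfl⟩ := hdec ⊤ (fun _ _ => mem_top _) g (mem_top g)
      exact ⟨(⟨i, hi⟩, ⟨c, hc⟩), rfl⟩
  have hcardY : ∀ q : (Nat.card G).primeFactors, Nat.card (Y q) = (q : ℕ) ^ (Nat.card G).factorization q := by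
    intro q
    haveI := Fact.mk (Nat.prime_of_mem_primeFactors q.2)
    rw [← (P q).card_eq_multiplicity]
    refine Nat.card_congr (Equiv.ofBijective
      (fun y : Y q => (⟨(y.1.1 : G) * y.2.1, mul_mem y.1.2 y.2.2⟩ : (P q : Subgroup G))) ⟨?_, ?_⟩)
    · intro y y' h
      obtain ⟨h1, h2⟩ := huniq _ _ _ _ y.1.1.2 y.2.1.2 y'.1.1.2 y'.2.1.2 (congrArg Subtype.val h)
      exact Prod.ext (Subtype.ext (Subtype.ext h1)) (Subtype.ext (Subtype.ext h2))
    · intro g
      obtain ⟨i, c, hiP, hcP, hi, hc, he⟩ := hdec (P q) (hP q) g g.2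
      exact ⟨(⟨⟨i, hi⟩, hiP⟩, ⟨⟨c, hc⟩, hcP⟩), Subtype.ext he.symm⟩
  have hcardPi : Nat.card ((q : (Nat.card G).primeFactors) → Y q) = Nat.card G := by
    classical
    rw [Nat.card_pi, Finset.prod_congr rfl (fun q _ => hcardY q)]
    rw [Finset.prod_coe_sort (Nat.card G).primeFactors (fun q => q ^ (Nat.card G).factorization q)]
    exact Nat.prod_factorization_pow_eq_self (Nat.card_pos (α := G)).ne'
  have hsurj : Function.Surjective Φ :=
    (hinj.bijective_of_nat_card_le (hcardPi.trans hcardI.symm).le).2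
  have hcommI : ∀ q r : (Nat.card G).primeFactors, q ≠ r → ∀ a : G, σ (σ a) = a⁻¹ →
      a ∈ (P q : Subgroup G) → ∀ b : G, σ (σ b) = b⁻¹ → b ∈ (P r : Subgroup G) →
      a * b = b * a := by
    classical
    intro q r hqr a ha haP b hb hbP
    let one : ∀ s : (Nat.card G).primeFactors, Y s := fun s =>
      (⟨⟨1, by simp⟩, one_mem _⟩, ⟨1, one_mem _⟩)
    let y : ∀ s : (Nat.card G).primeFactors, Y s :=
      Function.update (Function.update one q (⟨⟨a, ha⟩, haP⟩, ⟨1, one_mem _⟩)) r
        (⟨⟨b, hb⟩, hbP⟩, ⟨1, one_mem _⟩)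
    obtain ⟨⟨i, c⟩, hic⟩ := hsurj y
    have h1 := congrArg (fun z : Y q => (z.1.1 : G)) (congrFun hic q)
    have h2 := congrArg (fun z : Y r => (z.1.1 : G)) (congrFun hic r)
    simp only [y, Function.update_of_ne hqr, Function.update_self, Φ] at h1 h2
    rw [← h1, ← h2, ← pow_add, ← pow_add, add_comm]
  -- conclusion
  have hone : ∀ (q : (Nat.card G).primeFactors) (a : G), σ (σ a) = a⁻¹ → a ∈ (P q : Subgroup G) → a = 1 := by
    intro q
    let S : Set G := {a | σ (σ a) = a⁻¹ ∧ a ∈ (P q : Subgroup G)}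
    have hconj : ∀ c ∈ C, ∀ a ∈ S, c * a * c⁻¹ ∈ S := by
      rintro c (hc : σ (σ c) = c) a ⟨ha, haP⟩
      have hi : σ (σ (c * a * c⁻¹)) = (c * a * c⁻¹)⁻¹ := by
        rw [map_mul, map_mul, map_mul, map_mul, map_inv, map_inv, hc, ha]
        group
      haveI := Fact.mk (Nat.prime_of_mem_primeFactors q.2)
      obtain ⟨k, hk⟩ := (P q).2 ⟨a, haP⟩
      have hk' : a ^ (q : ℕ) ^ k = 1 := by simpa using congrArg Subtype.val hk
      exact ⟨hi, hIP q _ k hi (by rw [conj_pow, hk', mul_one, mul_inv_cancel])⟩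
    have hIn : ∀ (r : (Nat.card G).primeFactors) (b : G), σ (σ b) = b⁻¹ → b ∈ (P r : Subgroup G) →
        b ∈ normalizer (closure S : Set G) := by
      intro r b hb hbP
      by_cases hqr : q = r
      · subst hqr
        exact le_normalizer (subset_closure ⟨hb, hbP⟩)
      · exact mem_normalizer_closure _ fun a ha => by
          rw [← hcommI q r hqr a ha.1 ha.2 b hb hbP, mul_inv_cancel_right]
          exact subset_closure ha
    have hn : (closure S).Normal := by
      rw [← normalizer_eq_top_iff, eq_top_iff]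
      intro g _
      obtain ⟨i, c, -, -, hi, hc, rfl⟩ := hdec ⊤ (fun _ _ => mem_top _) g (mem_top g)
      refine mul_mem ?_ (mem_normalizer_closure _ fun a ha => subset_closure (hconj c hc a ha))
      rw [← pow_sum_partExp i]
      refine pow_sum_mem i _ _ fun r hr => ?_
      have hi' : σ (σ (i ^ partExp (Nat.card G) r)) = (i ^ partExp (Nat.card G) r)⁻¹ := by
        rw [map_pow, map_pow, hi, inv_pow]
      exact hIn ⟨r, hr⟩ _ hi' (hIP ⟨r, hr⟩ _ _ hi'
        (pow_partExp_pow i (Nat.prime_of_mem_primeFactors hr)))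
    have hinvS : ∀ x ∈ closure S, σ x ∈ closure S := by
      have : closure S ≤ (closure S).comap σ.toMonoidHom := by
        rw [closure_le]
        rintro a ⟨ha, haP⟩
        exact subset_closure ⟨by rw [MulEquiv.coe_toMonoidHom, ha, map_inv], hP q a haP⟩
      exact fun x hx => this hx
    rcases hsimple _ hn hinvS with h | h
    · intro a ha haP
      have : a ∈ closure S := subset_closure ⟨ha, haP⟩
      rwa [h, Subgroup.mem_bot] at this
    · exfalso
      haveI := Fact.mk (Nat.prime_of_mem_primeFactors q.2)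
      have hle : closure S ≤ (P q : Subgroup G) := (closure_le _).2 fun a ha => ha.2
      rw [h] at hle
      have hG : IsPGroup (q : ℕ) G :=
        ((P q).2.to_le hle).of_equiv Subgroup.topEquiv
      haveI := hG.isNilpotent
      exact hns inferInstance
  obtain ⟨g, hg⟩ := hz1
  obtain ⟨i, c, -, -, hi, hc, rfl⟩ := hdec ⊤ (fun _ _ => mem_top _) g (mem_top g)
  have hi1 : i = 1 := by
    rw [← pow_sum_partExp i, ← Subgroup.mem_bot]
    refine pow_sum_mem i _ _ fun r hr => Subgroup.mem_bot.2 ?_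
    have hi' : σ (σ (i ^ partExp (Nat.card G) r)) = (i ^ partExp (Nat.card G) r)⁻¹ := by
      rw [map_pow, map_pow, hi, inv_pow]
    exact hone ⟨r, hr⟩ _ hi' (hIP ⟨r, hr⟩ _ _ hi'
      (pow_partExp_pow i (Nat.prime_of_mem_primeFactors hr)))
  rw [hi1, one_mul] at hg
  exact hg hc

/-- Gorenstein and Herstein: a finite group with a fixed point free automorphism of order four is
solvable. -/
theorem isSolvable (σ : MulAut G) (hσ : σ ^ 4 = 1) (hfpf : ∀ g : G, σ g = g → g = 1) :
    Group.IsSolvable G :=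
  isSolvable_aux _ G rfl σ hσ hfpf

end CfsgLib.OrderFour
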