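import Mathlib.GroupTheory.OrderOfElement
import Mathlib.Tactic

/-!
Two commuting operators of odd order on a module of coprime odd order, interchanged up to inversion
by a fixed point free operator of order four.
-/

set_option autoImplicit false
set_option linter.unusedSectionVars false

namespace CfsgLib.OrderFour

variable {M : Type*} [AddCommGroup M] [Finite M]

theorem eq_zero_of_nsmul {k : ℕ} (hcop : k.Coprime (Nat.card M)) {d : M} (h : k • d = 0) :
    d = 0 := by
  have h1 := addOrderOf_dvd_iff_nsmul_eq_zero.2 h
  have h2 := Nat.dvd_gcd h1 (addOrderOf_dvd_natCard d)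
  rw [hcop.gcd_eq_one, Nat.dvd_one, AddMonoid.addOrderOf_eq_one_iff] at h2
  exact h2

/-- An operator of order prime to the module fixes what it moves by a fixed amount. -/
theorem kill {k : ℕ} (hcop : k.Coprime (Nat.card M)) (f : M ≃+ M) (hf : ∀ x, (f : M → M)^[k] x = x)
    {u : M} (h : f (f u - u) = f u - u) : f u = u := by
  have key : ∀ n : ℕ, (f : M → M)^[n] u = u + n • (f u - u) := by
    intro n
    induction n with
    | zero => simp
    | succ n ih =>
      rw [Function.iterate_succ_apply', ih, map_add, map_nsmul, h, succ_nsmul]
      abel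
  have h1 := key k
  rw [hf] at h1
  exact sub_eq_zero.1 (eq_zero_of_nsmul hcop (left_eq_add.1 h1))

theorem eq_zero_of_add_self (hodd : Odd (Nat.card M)) {w : M} (h : w + w = 0) : w = 0 :=
  eq_zero_of_nsmul hodd.coprime_two_left (by rw [two_nsmul, h])

theorem eq_zero_of_neg {k : ℕ} (hk : Odd k) (hodd : Odd (Nat.card M)) (f : M ≃+ M)
    (hf : ∀ x, (f : M → M)^[k] x = x) {w : M} (h : f w = -w) : w = 0 := by
  have key : ∀ n : ℕ, (f : M → M)^[2 * n] w = w := by
    intro n
    induction n with
    | zero => simp
    | succ n ih =>
      rw [show 2 * (n + 1) = 2 * n + 1 + 1 by ring, Function.iterate_succ_apply',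
        Function.iterate_succ_apply', ih, h, map_neg, h, neg_neg]
  obtain ⟨m, rfl⟩ := hk
  have h1 : f ((f : M → M)^[2 * m] w) = w := (Function.iterate_succ_apply' _ _ _).symm.trans (hf w)
  rw [key, h] at h1
  exact eq_zero_of_add_self hodd (neg_eq_iff_add_eq_zero.1 h1)

/-- The main lemma on modules: both operators are trivial. -/
theorem operators_trivial {k : ℕ} (hk : Odd k) (hcop : k.Coprime (Nat.card M))
    (hodd : Odd (Nat.card M)) (i j s : M ≃+ M)
    (hik : ∀ x, (i : M → M)^[k] x = x) (hjk : ∀ x, (j : M → M)^[k] x = x)
    (hcomm : ∀ x, i (j x) = j (i x)) (hsi : ∀ x, s (i x) = j (s x))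
    (hsj : ∀ x, s (j x) = i.symm (s x)) (hsfix : ∀ x, s x = x → x = 0)
    (hrel : ∀ c, s (s c) = c → i (j c - c) = j c - c)
    (hs4 : ∀ x, s (s (s (s x))) = x) (x : M) : i x = x := by
  have hzi : ∀ x, s (s (i x)) = i.symm (s (s x)) := fun x => by rw [hsi, hsj]
  have hsis : ∀ x, s (i.symm x) = j.symm (s x) := fun x => by
    apply j.injective
    rw [← hsi, i.apply_symm_apply, j.apply_symm_apply]
  have hzis : ∀ x, s (s (i.symm x)) = i (s (s x)) := fun x => by
    apply i.symm.injective
    rw [← hzi, i.apply_symm_apply, i.symm_apply_apply]
  have hzj : ∀ x, s (s (j x)) = j.symm (s (s x)) := fun x => by rw [hsj, hsis]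
  have hzjs : ∀ x, s (s (j.symm x)) = j (s (s x)) := fun x => by
    apply j.symm.injective
    rw [← hzj, j.apply_symm_apply, j.symm_apply_apply]
  have hsneg : ∀ c, s (s c) = c → s c = -c := fun c hc => by
    refine eq_neg_of_add_eq_zero_left (hsfix _ ?_)
    rw [map_add, hc, add_comm]
  -- the product of the two differences is zero
  have hij : ∀ v, i (j v - v) = j v - v := by
    intro v
    have hminus : ∀ b, s (s b) = -b → i (j b - b) = j b - b := by
      intro b hb
      set u := i b - b with hu
      have hzu : s (s u) = i.symm u := by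
        rw [hu, map_sub, map_sub, hzi, hb, map_sub, i.symm_apply_apply, map_neg]
        abel
      have hc : s (s (u + i.symm u)) = u + i.symm u := by
        rw [map_add, map_add, hzu, hzis, hzu, i.apply_symm_apply]
        abel
      have h1 := hrel _ hc
      set w := i (j u - u) - (j u - u) with hw
      have hwneg : i w = -w := by
        have hji : j (i.symm u) = i.symm (j u) := by
          apply i.injective
          rw [hcomm, i.apply_symm_apply, i.apply_symm_apply]
        rw [map_add, hji] at h1
        have e : i (i.symm (j u) - i.symm u) = j u - u := by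
          rw [map_sub, i.apply_symm_apply, i.apply_symm_apply]
        have h2 : i (j u - u) + (j u - u) = (j u - u) + (i.symm (j u) - i.symm u) := by
          have h3 : i (j u - u + (i.symm (j u) - i.symm u)) = j u - u + (i.symm (j u) - i.symm u) := by
            rw [show j u - u + (i.symm (j u) - i.symm u) = j u + i.symm (j u) - (u + i.symm u) by abel]
            exact h1
          rwa [map_add, e] at h3
        have h4 := congrArg i h2
        rw [map_add, map_add, e] at h4
        rw [hw, map_sub, eq_neg_iff_add_eq_zero]
        linear_combination (norm := abel) h4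
      have hw0 := eq_zero_of_neg hk hodd i hik hwneg
      rw [hw, sub_eq_zero] at hw0
      have e : j u - u = i (j b - b) - (j b - b) := by
        rw [hu, map_sub, map_sub, hcomm]
        abel
      rw [e] at hw0
      exact kill hcop i hik hw0
    have hp : s (s (v + s (s v))) = v + s (s v) := by rw [map_add, map_add, hs4]; abel
    have hm : s (s (v - s (s v))) = -(v - s (s v)) := by rw [map_sub, map_sub, hs4]; abel
    have h1 := hrel _ hp
    have h2 := hminus _ hm
    refine sub_eq_zero.1 (eq_zero_of_add_self hodd ?_)
    rw [← sub_eq_zero] at h1 h2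
    simp only [map_add, map_sub] at h1 h2 ⊢
    linear_combination (norm := abel) h1 + h2
  -- one operator fixes the fixed points of the square
  have hjfix : ∀ u, s (s u) = u → i u = u → j u = u := fun u hu hiu => by
    have h1 := hsi u
    rw [hiu, hsneg u hu, map_neg] at h1
    exact (neg_injective h1).symm
  have hcfix : ∀ c, s (s c) = c → j c = c := by
    intro c hc
    set u := j c - c with hu
    have hzu : s (s u) = j.symm c - c := by rw [hu, map_sub, map_sub, hzj, hc]
    have hiu : i u = u := hij c
    have hizu : i (s (s u)) = s (s u) := by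
      rw [← hzis, show i.symm u = u from (i.symm_apply_eq).2 hiu.symm]
    have he : j.symm c - c = -(j.symm u) := by rw [hu, map_sub, j.symm_apply_apply]; abel
    rw [hzu] at hizu
    have hje : j (u + (j.symm c - c)) = u + (j.symm c - c) := hjfix _
      (by rw [map_add, map_add, hzu, map_sub, map_sub, hzjs, hc, add_comm, ← hu])
      (by rw [map_add, hiu, hizu])
    rw [he, ← sub_eq_add_neg, map_sub, j.apply_symm_apply] at hje
    have hju : j (j u - u) = j u - u := by
      have h7 : j (u - j.symm u) = j u - u := by rw [map_sub, j.apply_symm_apply]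
      exact (congrArg j hje).trans h7
    exact kill hcop j hjk (kill hcop j hjk hju)
  have hbfix : ∀ b, s (s b) = -b → j b = b := by
    intro b hb
    set u := j b - b with hu
    have hzu : s (s u) = j.symm u := by
      rw [hu, map_sub, map_sub, hzj, hb, map_sub, j.symm_apply_apply, map_neg]
      abel
    have hje : j (u + j.symm u) = u + j.symm u := hcfix _
      (by rw [map_add, map_add, hzu, hzjs, hzu, j.apply_symm_apply, add_comm])
    rw [map_add, j.apply_symm_apply] at hje
    have h6 : j (j u - u) = -(j u - u) := by
      have h5 := congrArg j hje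
      simp only [map_add, j.apply_symm_apply] at h5
      rw [map_sub]
      linear_combination (norm := abel) h5
    exact kill hcop j hjk (sub_eq_zero.1 (eq_zero_of_neg hk hodd j hjk h6))
  have hj1 : ∀ v, j v = v := by
    intro v
    have h1 := hcfix (v + s (s v)) (by rw [map_add, map_add, hs4, add_comm])
    have h2 := hbfix (v - s (s v)) (by rw [map_sub, map_sub, hs4]; abel)
    refine sub_eq_zero.1 (eq_zero_of_add_self hodd ?_)
    rw [← sub_eq_zero] at h1 h2
    simp only [map_add, map_sub] at h1 h2
    linear_combination (norm := abel) h1 + h2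
  apply s.injective
  rw [hsi, hj1]

end CfsgLib.OrderFour
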