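import Cfsg.Agent.OrderFour.Module
import Cfsg.Agent.FGSA.FPFFour
import Cfsg.Agent.FGSA.ThompsonNil
import Cfsg.Agent.Solvable.Basics
import Mathlib.GroupTheory.Nilpotent

/-!
The theorem of Gorenstein and Herstein: a finite group with a fixed point free automorphism of
order four is solvable.
-/

set_option autoImplicit false
set_option linter.style.haveILetI false
set_option linter.unusedSectionVars false

namespace CfsgLib.OrderFour

open Subgroup
open CfsgLib.ThompsonNil (restrict)

universe u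

variable {G : Type u} [Group G] [Finite G] (σ : MulAut G)

/-- The product over an orbit is trivial. -/
theorem split (hσ : σ ^ 4 = 1) (hfpf : ∀ g : G, σ g = g → g = 1) (n : G) :
    n * σ n * σ (σ n) * σ (σ (σ n)) = 1 := by
  obtain ⟨k, -, rfl⟩ := FPFFour.exists_eq_inv_mul σ hfpf (K := ⊤) (fun _ _ => mem_top _) (mem_top n)
  have h4 : σ (σ (σ (σ k))) = k := by
    have := DFunLike.congr_fun hσ k
    simpa [pow_succ, MulAut.mul_apply] using this
  simp only [map_mul, map_inv, h4]
  group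

theorem sq_sq (hσ : σ ^ 4 = 1) (k : G) : σ (σ (σ (σ k))) = k := by
  have := DFunLike.congr_fun hσ k
  simpa [pow_succ, MulAut.mul_apply] using this

/-- An inverted element commutes with the conjugates of its image by fixed elements. -/
theorem commute_conj (hσ : σ ^ 4 = 1) (hfpf : ∀ g : G, σ g = g → g = 1) {x c : G}
    (hx : σ (σ x) = x⁻¹) (hc : σ (σ c) = c) : Commute x (c * σ x * c⁻¹) := by
  have h := split σ hσ hfpf (x * c)
  have h1 : σ c = c⁻¹ := FPFFour.inv_of_fix σ hfpf hc
  simp only [map_mul, hx, map_inv, h1, inv_inv] at h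
  have h' : x * (c * σ x * c⁻¹) * x⁻¹ * (c * σ x * c⁻¹)⁻¹ = 1 := by
    rw [← h]; group
  exact mul_inv_eq_iff_eq_mul.1 (mul_inv_eq_one.1 h')

theorem restrict_four (hσ : σ ^ 4 = 1) (H : Subgroup G) (hH : ∀ x ∈ H, σ x ∈ H) :
    restrict σ H hH ^ 4 = 1 := by
  ext x
  rw [CfsgLib.ThompsonNil.restrict_pow, hσ]
  rfl

theorem restrict_fpf (hfpf : ∀ g : G, σ g = g → g = 1) (H : Subgroup G)
    (hH : ∀ x ∈ H, σ x ∈ H) (g : H) (hg : restrict σ H hH g = g) : g = 1 :=
  Subtype.ext (hfpf g (congrArg Subtype.val hg))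

/-- The automorphism of a quotient by an invariant normal subgroup. -/
noncomputable def quotAut (N : Subgroup G) [N.Normal] (hN : ∀ n ∈ N, σ n ∈ N) :
    MulAut (G ⧸ N) :=
  QuotientGroup.congr N N σ (CfsgLib.ThompsonNil.map_eq_of_mem σ hN)

theorem quotAut_mk (N : Subgroup G) [N.Normal] (hN : ∀ n ∈ N, σ n ∈ N) (g : G) :
    quotAut σ N hN (g : G ⧸ N) = ((σ g : G) : G ⧸ N) := rfl

theorem quotAut_fpf (hfpf : ∀ g : G, σ g = g → g = 1) (N : Subgroup G) [N.Normal]
    (hN : ∀ n ∈ N, σ n ∈ N) (g : G ⧸ N) (hg : quotAut σ N hN g = g) : g = 1 := by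
  obtain ⟨a, rfl⟩ := QuotientGroup.mk_surjective g
  rw [quotAut_mk, eq_comm, QuotientGroup.eq] at hg
  exact (QuotientGroup.eq_one_iff a).2 (FPFFour.fpf_of_mem σ hfpf hN hg)

theorem quotAut_four (hσ : σ ^ 4 = 1) (N : Subgroup G) [N.Normal]
    (hN : ∀ n ∈ N, σ n ∈ N) : quotAut σ N hN ^ 4 = 1 := by
  ext g
  obtain ⟨a, rfl⟩ := QuotientGroup.mk_surjective g
  simp [pow_succ, MulAut.mul_apply, quotAut_mk, sq_sq σ hσ]

theorem iterate_conj {V : Subgroup G} [V.Normal] (a : G) (h : ∀ x ∈ V, MulAut.conj a x ∈ V)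
    (n : ℕ) (v : Additive V) :
    (((MulEquiv.toAdditive (restrict (MulAut.conj a) V h) : Additive V → Additive V)^[n] v).toMul
      : G) = a ^ n * (v.toMul : G) * (a ^ n)⁻¹ := by
  induction n generalizing v with
  | zero => simp
  | succ n ih =>
    rw [Function.iterate_succ_apply', pow_succ']
    show a * _ * a⁻¹ = _
    rw [Subgroup.subtype_apply, ih]
    group

/-- An inverted element of prime power order centralizes the normal abelian invariant subgroups
of coprime order. -/
theorem centralizes (hσ : σ ^ 4 = 1) (hfpf : ∀ g : G, σ g = g → g = 1) (V : Subgroup G) [V.Normal]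
    (hV : ∀ n ∈ V, σ n ∈ V) (hab : ∀ m ∈ V, ∀ n ∈ V, m * n = n * m) {x : G}
    (hx : σ (σ x) = x⁻¹) (hcop : (orderOf x).Coprime (Nat.card V)) :
    ∀ v ∈ V, x * v = v * x := by
  intro v hv
  letI : CommGroup V :=
    { (inferInstance : Group V) with mul_comm := fun a b => Subtype.ext (hab a a.2 b b.2) }
  have hn : ∀ a : G, ∀ y ∈ V, MulAut.conj a y ∈ V := fun a y hy =>
    (inferInstance : V.Normal).conj_mem y hy a
  let i : Additive V ≃+ Additive V := MulEquiv.toAdditive (restrict (MulAut.conj x) V (hn x))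
  let j : Additive V ≃+ Additive V := MulEquiv.toAdditive (restrict (MulAut.conj (σ x)) V (hn _))
  let s : Additive V ≃+ Additive V := MulEquiv.toAdditive (restrict σ V hV)
  have vi : ∀ a : Additive V, ((i a).toMul : G) = x * (a.toMul : G) * x⁻¹ := fun a => rfl
  have vj : ∀ a : Additive V, ((j a).toMul : G) = σ x * (a.toMul : G) * (σ x)⁻¹ := fun a => rfl
  have vs : ∀ a : Additive V, ((s a).toMul : G) = σ (a.toMul : G) := fun a => rfl
  have ext' : ∀ {a b : Additive V}, (a.toMul : G) = (b.toMul : G) → a = b := fun h =>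
    Additive.toMul.injective (Subtype.ext h)
  have hodd := FPFFour.odd_card σ hσ hfpf
  have hko : Odd (orderOf x) := hodd.of_dvd_nat (orderOf_dvd_natCard x)
  have hMo : Odd (Nat.card (Additive V)) := hodd.of_dvd_nat (card_subgroup_dvd_card V)
  have hcomm : Commute x (σ x) := by simpa using commute_conj σ hσ hfpf hx (c := 1) (by simp)
  have hord : (σ x) ^ orderOf x = 1 := by rw [← map_pow, pow_orderOf_eq_one, map_one]
  have hfix := operators_trivial hko (M := Additive V) hcop hMo i j s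
    (fun a => ext' (by rw [iterate_conj, pow_orderOf_eq_one]; simp))
    (fun a => ext' (by rw [iterate_conj, hord]; simp))
    (fun a => ext' (by
      rw [vi, vj, vj, vi, show x * (σ x * (a.toMul : G) * (σ x)⁻¹) * x⁻¹ =
        x * σ x * (a.toMul : G) * (x * σ x)⁻¹ by group, hcomm.eq]
      group))
    (fun a => ext' (by rw [vs, vj, vi, vs, map_mul, map_mul, map_inv]))
    (fun a => by
      apply i.injective
      rw [i.apply_symm_apply]
      apply ext'
      rw [vi, vs, vj, vs, map_mul, map_mul, map_inv, hx]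
      group)
    (fun a ha => ext' (hfpf _ (by rw [← vs, ha])))
    (fun c hc => ext' (by
      have hc' : σ (σ (c.toMul : G)) = (c.toMul : G) := by rw [← vs, ← vs, hc]
      have h1 := commute_conj σ hσ hfpf hx hc'
      have e : ((j c - c).toMul : G) =
          σ x * (c.toMul : G) * (σ x)⁻¹ * (c.toMul : G)⁻¹ := by
        rw [sub_eq_add_neg, toMul_add, Subgroup.coe_mul, vj]
        rfl
      rw [vi, e]
      have h2 : Commute x (σ x * ((c.toMul : G) * σ x * (c.toMul : G)⁻¹)⁻¹) :=
        hcomm.mul_right h1.inv_right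
      rw [show σ x * (c.toMul : G) * (σ x)⁻¹ * (c.toMul : G)⁻¹ =
        σ x * ((c.toMul : G) * σ x * (c.toMul : G)⁻¹)⁻¹ by group, h2.eq, mul_inv_cancel_right]))
    (fun a => ext' (by rw [vs, vs, vs, vs, sq_sq σ hσ]))
    (Additive.ofMul (⟨v, hv⟩ : V))
  exact mul_inv_eq_iff_eq_mul.1 (congrArg (fun a : Additive V => (a.toMul : G)) hfix)

theorem mem_pCore_aux : ∀ (n : ℕ) (G : Type u) [Group G] [Finite G], Nat.card G = n →
    Group.IsSolvable G → ∀ σ : MulAut G, σ ^ 4 = 1 → (∀ g : G, σ g = g → g = 1) →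
      ∀ (q k : ℕ) [Fact q.Prime] (x : G), σ (σ x) = x⁻¹ → x ^ q ^ k = 1 →
        x ∈ Cfsg.pCore q G := by
  intro n
  induction n using Nat.strong_induction_on with
  | _ n ih =>
  intro G _ _ hn hsolv σ hσ hfpf q k hq x hx hxq
  subst hn
  rcases subsingleton_or_nontrivial G with hG | hG
  · rw [Subsingleton.elim x 1]; exact one_mem _
  obtain ⟨V, r, hr, hV1, hVn, hVσ, hVab, hVr, -⟩ := FPFFour.exists_min_invariant hsolv σ
  haveI := hVn
  haveI := hsolv
  have hlt : Nat.card (G ⧸ V) < Nat.card G := by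
    rw [Subgroup.card_eq_card_quotient_mul_card_subgroup V]
    exact lt_mul_of_one_lt_right Nat.card_pos ((one_lt_card_iff_ne_bot V).2 hV1)
  have hxbar : ((x : G) : G ⧸ V) ∈ Cfsg.pCore q (G ⧸ V) :=
    ih _ hlt (G ⧸ V) rfl inferInstance (quotAut σ V hVσ) (quotAut_four σ hσ V hVσ)
      (quotAut_fpf σ hfpf V hVσ) q k _ (by rw [quotAut_mk, quotAut_mk, hx]; rfl)
      (by rw [← QuotientGroup.mk_pow, hxq]; rfl)
  let L : Subgroup G := (Cfsg.pCore q (G ⧸ V)).comap (QuotientGroup.mk' V)
  have hLn : L.Normal := by infer_instance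
  have hxL : x ∈ L := hxbar
  have hVgrp : IsPGroup r V := fun v => ⟨1, Subtype.ext (by rw [pow_one]; exact hVr v v.2)⟩
  by_cases hrq : r = q
  · subst hrq
    refine CfsgLib.Solvable.le_pCore _ hLn ?_ hxL
    exact (CfsgLib.Solvable.isPGroup_pCore _).comap_of_ker_isPGroup _
      (by rw [QuotientGroup.ker_mk']; exact hVgrp)
  · haveI := Fact.mk hr
    have hcop : (orderOf x).Coprime (Nat.card V) := by
      obtain ⟨a, ha⟩ := IsPGroup.iff_card.1 hVgrp
      rw [ha]
      exact Nat.Coprime.coprime_dvd_left (orderOf_dvd_of_pow_eq_one hxq)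
        (((Nat.coprime_primes hq.out hr).2 (Ne.symm hrq)).pow k a)
    have hc := centralizes σ hσ hfpf V hVσ hVab hx hcop
    let L0 : Subgroup G := L ⊓ centralizer (V : Set G)
    haveI : L0.Normal := Subgroup.normal_inf_normal L (centralizer (V : Set G))
    have hx0 : x ∈ L0 := ⟨hxL, fun v hv => (hc v hv).symm⟩
    let f : L0 →* Cfsg.pCore q (G ⧸ V) :=
      ((QuotientGroup.mk' V).comp L0.subtype).codRestrict _ fun y => y.2.1
    haveI : Group.IsNilpotent (Cfsg.pCore q (G ⧸ V)) :=
      (CfsgLib.Solvable.isPGroup_pCore (G := G ⧸ V) q).isNilpotent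
    haveI : Group.IsNilpotent L0 := Subgroup.isNilpotent_of_ker_le_center f (fun y hy => by
      have hyV : (y : G) ∈ V := by
        have := congrArg Subtype.val (MonoidHom.mem_ker.1 hy)
        exact (QuotientGroup.eq_one_iff _).1 this
      refine mem_center_iff.2 fun z => Subtype.ext ?_
      exact (z.2.2 _ hyV).symm)
    obtain ⟨P, hP⟩ := IsPGroup.exists_le_sylow (p := q) (P := zpowers (⟨x, hx0⟩ : L0)) (fun y => ⟨k, by
      obtain ⟨i, hi⟩ := mem_zpowers_iff.1 y.2
      apply Subtype.ext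
      apply Subtype.ext
      rw [Subgroup.coe_pow, ← hi, Subgroup.coe_pow, Subgroup.coe_zpow, ← zpow_natCast, ← zpow_mul,
        mul_comm, zpow_mul, zpow_natCast, hxq, one_zpow]
      rfl⟩)
    haveI : (P : Subgroup L0).Normal := inferInstance
    haveI : (P : Subgroup L0).Characteristic := P.characteristic_of_normal inferInstance
    haveI : ((P : Subgroup L0).map L0.subtype).Normal := ConjAct.normal_of_characteristic_of_normal
    exact CfsgLib.Solvable.le_pCore q inferInstance (P.2.map L0.subtype)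
      ⟨⟨x, hx0⟩, hP (mem_zpowers _), rfl⟩

/-- An inverted element of prime power order lies in the corresponding core. -/
theorem mem_pCore (hσ : σ ^ 4 = 1) (hfpf : ∀ g : G, σ g = g → g = 1) (H : Subgroup G)
    (hH : ∀ h ∈ H, σ h ∈ H) (hsolv : Group.IsSolvable H) {q k : ℕ} [Fact q.Prime] {x : G}
    (hxH : x ∈ H) (hx : σ (σ x) = x⁻¹) (hxq : x ^ q ^ k = 1) :
    x ∈ (Cfsg.pCore q H).map H.subtype :=
  ⟨⟨x, hxH⟩, mem_pCore_aux _ H rfl hsolv (restrict σ H hH) (restrict_four σ hσ H hH)
    (restrict_fpf σ hfpf H hH) q k _ (Subtype.ext hx) (Subtype.ext hxq), rfl⟩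

end CfsgLib.OrderFour
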